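import Groth.Agent.Lib.WayOut.Scheme
import Groth.Agent.Lib.WayOut.Holim
import Groth.Agent.Lib.DerivedOX.RpushQCoh
import Groth.Agent.Lib.DerivedOX.Exists
import Groth.Agent.Lib.GrothVan.Main
import Groth.Agent.Lib.GrothVanSupport
import Groth.Agent.Lib.ZarCoh.Morph
import Groth.Prelude.Def_DCoh2

/-!
# The amplitude of direct images to a point

Adapted from `Groth.Agent.H56.CurveDual.Main`, with a lighter import closure.
-/

set_option autoImplicit false
set_option linter.style.haveILetI false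
set_option linter.unusedSectionVars false

universe u

open CategoryTheory CategoryTheory.Limits AlgebraicGeometry TopologicalSpace DerivedCategory

attribute [local instance] HasDerivedCategory.standard

namespace Groth.Agent.H23.TopDual.Amp

open Groth.Agent.Lib Groth.Agent.Lib.DerivedOX Groth.Agent.Lib.DerivedOX.RpushQCoh Groth.Agent.Lib.WayOut.Scheme
open Groth.Agent.Lib.WayOut.Bounded Groth.Agent.Lib.WayOut.Holim
open Groth.Agent.Lib.SpecSeq.RightHom Groth.Agent.Lib.SpecSeq.AcyclicComplex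

variable {X S : Scheme.{u}} (f : X ⟶ S)

/-- Cohomological bound for direct images to an affine scheme. -/
theorem isLE_Rpush_of_van [IsAffine S] [QuasiCompact f] [QuasiSeparated f] [DCoh.HasRpush f] (r : ℕ)
    (hv : ∀ (M : X.Modules), M.IsQuasicoherent → ∀ (W : S.Opens), IsAffineOpen W →
      ∀ p : ℕ, r + 1 ≤ p → Subsingleton (CohTop.HU (Coh.toAb M) p (f ⁻¹ᵁ W)))
    (E : DCoh.D X) (b : ℤ) (hE : DCoh.IsQCohD E) [E.IsLE b] :
    ((DCoh.Rpush f).obj E).IsLE (b + r) := by
  have hvan : ∀ W : S.Opens, IsAffineOpen W → Van (sect (f ⁻¹ᵁ W)) (qc X) (r + 1) := fun W hW M hM n hn =>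
    isZero_RS_sect (f ⁻¹ᵁ W) r M (fun p hp => hv M hM W hW p hp) n (by simpa using hn)
  refine (DerivedCategory.isLE_iff _ _).2 fun n hn => ?_
  obtain ⟨θ⟩ := nonempty_HD_Rpush f E n
  refine IsZero.of_iso ?_ θ
  obtain ⟨I, hI, ⟨e⟩⟩ := RightDerived.exists_resFunctor_obj_iso E
  haveI := hI
  haveI := DerCat.HProd.isIso_counit E
  let eI : DerivedCategory.Q.obj I ≅ E := (quotientCompQhIso _).symm.app I ≪≫
    Qh.mapIso e ≪≫ asIso ((RightDerived.resAdj _).counit.app E)
  haveI := isIso_cmp_of_isKInjective (P f) n I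
  refine IsZero.of_iso ?_ ((RH (P f) n).mapIso eI.symm ≪≫ (asIso ((cmp (P f) n).app I)).symm)
  refine (HomologicalComplex.exactAt_iff_isZero_homology
    (((P f).mapHomologicalComplex (ComplexShape.up ℤ)).obj I) n).1
    ((HomologicalComplex.exactAt_iff _ _).2 (exact_of_sect _ fun W => ?_))
  let e' : sect (f ⁻¹ᵁ W.1) ≅ P f ⋙ sect W.1 := NatIso.ofComponents fun _ => Iso.refl _
  haveI hc := isIso_cmp_of_isKInjective (sect (f ⁻¹ᵁ W.1)) n I
  have z : IsZero ((((sect (f ⁻¹ᵁ W.1)).mapHomologicalComplex (ComplexShape.up ℤ)).obj I).homology n) :=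
    (WayOut.Holim.isZero_RH (detects X) (sect (f ⁻¹ᵁ W.1)) (hvan W.1 W.2) E hE b n (by lia)).of_iso
      (@asIso _ _ _ _ _ hc ≪≫ (RH (sect (f ⁻¹ᵁ W.1)) n).mapIso eI)
  exact (HomologicalComplex.exactAt_iff _ _).1
    (((HomologicalComplex.exactAt_iff_isZero_homology _ _).2 z).of_iso
      ((NatIso.mapHomologicalComplex e' (ComplexShape.up ℤ)).app I))

/-- Modules supported in a closed set of dimension at most `d` have no higher cohomology over opens. -/
theorem subsingleton_HU_of_support [NoetherianSpace X] {N : ℕ} (hN : topologicalKrullDim X ≤ N)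
    (M : X.Modules) {Z : Set X} (hZ : IsClosed Z) {d : ℕ} (hd : topologicalKrullDim Z ≤ d)
    (hM : ∀ x, x ∉ Z → Subsingleton (M.presheaf.stalk x)) (U : X.Opens) (p : ℕ) (hp : d < p) :
    Subsingleton (CohTop.HU (Coh.toAb M) p U) := by
  obtain ⟨e⟩ := ZarCoh.Morph.nonempty_HHon_equiv M U p
  haveI : Subsingleton (Coh.HHon X M U p) := by
    haveI : NoetherianSpace (U : Scheme.{u}) := U.ι.isOpenEmbedding.isInducing.noetherianSpace
    refine GrothVanSupport.H_subsingleton N ((U.ι.isOpenEmbedding.isInducing.topologicalKrullDim_le).trans hN)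
      (hZ.preimage U.ι.base.hom.continuous) ((Topology.IsInducing.topologicalKrullDim_le
        (f := fun w : (U.ι ⁻¹' Z : Set (U : Scheme.{u})) => (⟨U.ι w.1, w.2⟩ : Z)) ?_).trans hd) _ (fun x hx => ?_) p hp
    · exact (U.ι.isOpenEmbedding.isInducing.comp Topology.IsInducing.subtypeVal).codRestrict _
    · haveI := hM (U.ι x) hx
      exact @AddCommGrpCat.isZero_of_subsingleton _
        (Modules.StalkRestrict.restrictStalkAddEquiv U.ι M x).toEquiv.subsingleton
  exact e.symm.toEquiv.subsingleton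


end Groth.Agent.H23.TopDual.Amp
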