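import Groth.Agent.H23.TopDual.VecDual
import Groth.Agent.Lib.DerivedOX.TildeEquiv
import Groth.Agent.Lib.RightAdjTensor.Scalar
import Groth.Agent.Lib.DerivedOX.RpushCoprod
import Groth.Agent.Lib.ExtHH.Basic
import Groth.Agent.Lib.QCoh.Tilde
import Groth.Agent.Lib.DerivedOX.RpushTriangulated

/-!
# Maps in `D(O_X)` and top cohomology for a scheme over a field
-/

set_option autoImplicit false
set_option linter.unusedSectionVars false
set_option linter.style.haveILetI false
set_option maxHeartbeats 1000000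

universe u

open CategoryTheory Limits AlgebraicGeometry

attribute [local instance] HasDerivedCategory.standard

noncomputable section

namespace Groth.Agent.H23.TopDual

open Groth.Agent.Lib Groth.Agent.Lib.DerivedOX
open Groth.Agent.Lib.RightAdjTensor.Scalar (sD sC sD_app_Q)

/-- `O` in degree `0`. -/
abbrev oneX (X : Scheme.{u}) : DCoh.D X := DCoh.inD X (Coh.structureModule X)

/-- `M` in degree `-d`. -/
abbrev sh {X : Scheme.{u}} (d : ℕ) (M : X.Modules) : DCoh.D X := (DCoh.inD X M)⟦(d : ℤ)⟧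

/-- The map on `sh`. -/
abbrev shMap {X : Scheme.{u}} (d : ℕ) {M N : X.Modules} (g : M ⟶ N) : sh d M ⟶ sh d N :=
  ((DerivedCategory.singleFunctor X.Modules 0).map g)⟦(d : ℤ)⟧'

lemma sD_single {X : Scheme.{u}} (c : Γ(X, ⊤)) (n : ℤ) (M : X.Modules) :
    (sD c).app ((DerivedCategory.singleFunctor X.Modules n).obj M) =
      (DerivedCategory.singleFunctor X.Modules n).map (TwSh.scalarEnd M c) := by
  refine (sD_app_Q c ((HomologicalComplex.single X.Modules (ComplexShape.up ℤ) n).obj M)).trans ?_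
  refine congrArg DerivedCategory.Q.map (HomologicalComplex.from_single_hom_ext ?_)
  refine Eq.trans ?_ (HomologicalComplex.single_map_f_self (ComplexShape.up ℤ) n (TwSh.scalarEnd M c)).symm
  change TwSh.scalarEnd (((HomologicalComplex.single X.Modules (ComplexShape.up ℤ) n).obj M).X n) c = _
  rw [← cancel_mono (HomologicalComplex.singleObjXSelf (ComplexShape.up ℤ) n M).hom, Category.assoc,
    Category.assoc, Iso.inv_hom_id, Category.comp_id]
  exact (Groth.Agent.Lib.RightAdjTensor.Scalar.scalarEnd_natural _ c).symm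

lemma sD_sh {X : Scheme.{u}} (c : Γ(X, ⊤)) (d : ℕ) (M : X.Modules) :
    (sD c).app (sh d M) = shMap d (TwSh.scalarEnd M c) := by
  let e := ((DerivedCategory.singleFunctors X.Modules).shiftIso (d : ℤ) (-(d : ℤ)) 0 (by omega))
  have h1 := (sD c).naturality (e.hom.app M)
  have h2 := e.hom.naturality (TwSh.scalarEnd M c)
  rw [← cancel_mono (e.hom.app M)]
  refine h1.symm.trans (Eq.trans ?_ h2.symm)
  exact congrArg (e.hom.app M ≫ ·) (sD_single c (-(d : ℤ)) M)

lemma sD_one_comp {X : Scheme.{u}} (c : Γ(X, ⊤)) {K : DCoh.D X} (x : oneX X ⟶ K) :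
    (sD c).app (oneX X) ≫ x = x ≫ (sD c).app K :=
  ((sD c).naturality x).symm

/-- Every endomorphism of `O` is a scalar. -/
theorem exists_scalarEnd {X : Scheme.{u}} (f : Coh.structureModule X ⟶ Coh.structureModule X) :
    ∃ c : Γ(X, ⊤), f = TwSh.scalarEnd _ c := by
  refine ⟨f.app ⊤ (1 : Γ(X, ⊤)), Scheme.Modules.hom_ext _ _ fun U => ?_⟩
  ext s
  have h1 : f.app U (1 : Γ(X, U)) = TwSh.resTop X U (f.app ⊤ (1 : Γ(X, ⊤))) := by
    have h := ConcreteCategory.congr_hom (f.mapPresheaf.naturality (homOfLE (le_top : U ≤ ⊤)).op) (1 : Γ(X, ⊤))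
    refine (congrArg (f.app U) (map_one (TwSh.resTop X U)).symm).trans ?_
    exact h
  let s' : Γ(X, U) := s
  have h2 := Scheme.Modules.Hom.app_smul f (U := U) s' (1 : Γ(X, U))
  refine (congrArg (f.app U) (mul_one s').symm).trans (h2.trans ?_)
  refine (congrArg (fun v : Γ(X, U) => s' * v) h1).trans ?_
  exact mul_comm (G := Γ(X, U)) _ _

/-- Transport of representability of forms along a fully faithful functor. -/
theorem transport {C D : Type*} [Category C] [Preadditive C] [Category D] [Preadditive D] (F : C ⥤ D)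
    [F.Additive] [F.Full] [F.Faithful] {A : C} {B : D} (σ : F.obj A ≅ B) {M : C} {E : D} (e : F.obj M ≅ E)
    (h : ∀ ψ : (A ⟶ M) →+ (A ⟶ A), (∀ a x, ψ (a ≫ x) = a ≫ ψ x) → ∃ χ : M ⟶ A, ∀ x, x ≫ χ = ψ x)
    (ψ : (B ⟶ E) →+ (B ⟶ B)) (hψ : ∀ a x, ψ (a ≫ x) = a ≫ ψ x) :
    ∃ χ : E ⟶ B, ∀ x, x ≫ χ = ψ x := by
  let ψ' : (A ⟶ M) →+ (A ⟶ A) :=
    AddMonoidHom.mk' (fun x => F.preimage (σ.hom ≫ ψ (σ.inv ≫ F.map x ≫ e.hom) ≫ σ.inv)) fun a b =>
      F.map_injective (by
        simp only [Functor.map_preimage, Functor.map_add, Preadditive.add_comp, Preadditive.comp_add,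
          map_add])
  obtain ⟨χ, hχ⟩ := h ψ' fun a x => F.map_injective (by
    simp only [ψ', AddMonoidHom.mk'_apply, Functor.map_comp, Functor.map_preimage]
    have : σ.inv ≫ (F.map a ≫ F.map x) ≫ e.hom =
        (σ.inv ≫ F.map a ≫ σ.hom) ≫ (σ.inv ≫ F.map x ≫ e.hom) := by simp
    rw [this, hψ]
    simp)
  refine ⟨e.inv ≫ F.map χ ≫ σ.hom, fun x => ?_⟩
  obtain ⟨y, hy⟩ := F.map_surjective (σ.hom ≫ x ≫ e.inv)
  have h := congrArg F.map (hχ y)
  simp only [ψ', AddMonoidHom.mk'_apply, Functor.map_comp, Functor.map_preimage, hy] at h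
  rw [← cancel_epi σ.hom, ← cancel_mono σ.inv]
  simpa using h

section Field

variable (k : Type u) [Field k]

/-- The base. -/
abbrev S : Scheme.{u} := Spec (CommRingCat.of k)

/-- A scalar, as a global function on the base. -/
def rho (r : k) : Γ(S k, ⊤) := (Scheme.ΓSpecIso (CommRingCat.of k)).inv.hom r

/-- A scalar, as an endomorphism of `O`. -/
def Ψ (r : k) : oneX (S k) ⟶ oneX (S k) := (sD (rho k r)).app _

lemma Ψ_eq (r : k) : Ψ k r = (DerivedCategory.singleFunctor (S k).Modules 0).map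
    (TwSh.scalarEnd _ (rho k r)) := sD_single _ 0 _

lemma Ψ_add (r s : k) : Ψ k (r + s) = Ψ k r + Ψ k s := by
  rw [Ψ_eq, Ψ_eq, Ψ_eq, ← Functor.map_add]
  refine congrArg _ (Scheme.Modules.hom_ext _ _ fun U => ?_)
  ext x
  change TwSh.resTop (S k) U (rho k (r + s)) • x =
    TwSh.resTop (S k) U (rho k r) • x + TwSh.resTop (S k) U (rho k s) • x
  simp only [rho, map_add, add_smul]

lemma Ψ_mul (r s : k) : Ψ k (r * s) = Ψ k r ≫ Ψ k s := by
  rw [Ψ_eq, Ψ_eq, Ψ_eq, ← Functor.map_comp]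
  refine congrArg _ (Scheme.Modules.hom_ext _ _ fun U => ?_)
  ext x
  change TwSh.resTop (S k) U (rho k (r * s)) • x =
    TwSh.resTop (S k) U (rho k s) • (TwSh.resTop (S k) U (rho k r) • x)
  simp only [rho, map_mul, ← mul_smul]
  rw [mul_comm]

lemma Ψ_surjective : Function.Surjective (Ψ k) := by
  intro a
  obtain ⟨f, rfl⟩ := (DerivedCategory.singleFunctor (S k).Modules 0).map_surjective a
  obtain ⟨c, rfl⟩ := exists_scalarEnd f
  obtain ⟨r, rfl⟩ := (ConcreteCategory.bijective_of_isIso (Scheme.ΓSpecIso (CommRingCat.of k)).inv).2 c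
  exact ⟨r, Ψ_eq k r⟩

lemma Ψ_injective : Function.Injective (Ψ k) := by
  intro r s h
  rw [Ψ_eq, Ψ_eq] at h
  have h1 := congrArg (fun f : Coh.structureModule (S k) ⟶ Coh.structureModule (S k) =>
    f.app ⊤ (1 : Γ(S k, ⊤))) ((DerivedCategory.singleFunctor (S k).Modules 0).map_injective h)
  have hr : ∀ c : Γ(S k, ⊤), TwSh.resTop (S k) ⊤ c = c := fun c => by
    change ((S k).presheaf.map (homOfLE le_top).op).hom c = c
    rw [show (homOfLE (le_top : (⊤ : (S k).Opens) ≤ ⊤)).op = 𝟙 _ from Subsingleton.elim _ _,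
      CategoryTheory.Functor.map_id]
    rfl
  have h2 : TwSh.resTop (S k) ⊤ (rho k r) * 1 = TwSh.resTop (S k) ⊤ (rho k s) * 1 := h1
  rw [hr, hr, mul_one, mul_one] at h2
  exact (ConcreteCategory.bijective_of_isIso (Scheme.ΓSpecIso (CommRingCat.of k)).inv).1 h2

/-- Linear forms on `Hom(O, E)` come from maps `E → O`. -/
theorem exists_hom_to_oneX {E : DCoh.D (S k)} (hE : DCoh.IsQCohD E)
    (ψ : (oneX (S k) ⟶ E) →+ (oneX (S k) ⟶ oneX (S k))) (hψ : ∀ a x, ψ (a ≫ x) = a ≫ ψ x) :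
    ∃ χ : E ⟶ oneX (S k), ∀ x, x ≫ χ = ψ x := by
  let R := CommRingCat.of k
  haveI : PreservesFiniteLimits (tilde.functor R) := QCoh.Tilde.tildeFunctor_preservesFiniteLimits
  obtain ⟨C, ⟨e⟩⟩ := TildeEquiv.exists_preimage R E hE
  haveI : (tilde.functor R).Additive := Functor.additive_of_preserves_binary_products _
  haveI : PreservesColimitsOfSize.{0, 0} (tilde.functor R) := (tilde.adjunction (R := R)).leftAdjoint_preservesColimits
  haveI : PreservesFiniteColimits (tilde.functor R) := PreservesColimitsOfSize.preservesFiniteColimits _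
  haveI := TildeEquiv.full R
  haveI := TildeEquiv.faithful R
  let F := DCoh.tildeD R
  let σ : F.obj (DerivedCategory.Q.obj (oneC k)) ≅ oneX (S k) :=
    (Functor.mapDerivedCategorySingleFunctor (tilde.functor R) 0).app (ModuleCat.of R R) ≪≫
      (DerivedCategory.singleFunctor _ 0).mapIso tildeSelf
  exact transport F σ e (exists_hom_to_one C) ψ hψ

end Field

section Over

variable {k : Type u} [Field k] {X : Scheme.{u}} (p : X ⟶ S k) [DCoh.HasRpush p]

/-- `Hom(O_X, K) ≅ Hom(O_S, Rp_* K)`. -/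
theorem exists_eta : ∃ η : ∀ K : DCoh.D X, (oneX X ⟶ K) ≃ (oneX (S k) ⟶ (DCoh.Rpush p).obj K),
    (∀ (K L : DCoh.D X) (x : oneX X ⟶ K) (g : K ⟶ L), η L (x ≫ g) = η K x ≫ (DCoh.Rpush p).map g) ∧
    ∀ (K : DCoh.D X) (x y : oneX X ⟶ K), η K (x + y) = η K x + η K y := by
  haveI := LeftExists.hasLpull p
  obtain ⟨e⟩ := RpushCoprod.nonempty_Lpull_one p
  let adj := PullPushAdj.derivedAdjunction p
  refine ⟨fun K => (Iso.homCongr e.symm (Iso.refl K)).trans (adj.homEquiv (oneX (S k)) K),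
    fun K L x g => ?_, fun K x y => ?_⟩
  · simp [Iso.homCongr, adj.homEquiv_unit]
  · simp only [Equiv.trans_apply, Iso.homCongr_apply, Iso.refl_hom, Category.comp_id, adj.homEquiv_unit]
    rw [Preadditive.comp_add, (DCoh.Rpush p).map_add, Preadditive.comp_add]

end Over

section HH

variable (k : Type u) [Field k] {X : Scheme.{u}} [X.Over (S k)] (d : ℕ)

/-- `Hom(O_X, M[d]) → H^d(X, M)`. -/
def hh (M : X.Modules) (x : oneX X ⟶ sh d M) : Coh.HH X M d :=
  ExtHH.Basic.extUnitEquiv k M d (Abelian.Ext.homEquiv.symm x)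

lemma hh_surjective (M : X.Modules) : Function.Surjective (hh k d M) :=
  (ExtHH.Basic.extUnitEquiv k M d).surjective.comp (Equiv.surjective _)

lemma hh_add (M : X.Modules) (x y : oneX X ⟶ sh d M) : hh k d M (x + y) = hh k d M x + hh k d M y := by
  refine (congrArg (ExtHH.Basic.extUnitEquiv k M d) ?_).trans (map_add _ _ _)
  exact (Abelian.Ext.homAddEquiv.symm).map_add x y

lemma hh_comp {M N : X.Modules} (g : M ⟶ N) (x : oneX X ⟶ sh d M) :
    hh k d N (x ≫ shMap d g) =
      Sheaf.H.map ((SheafOfModules.toSheaf X.ringCatSheaf).map g) d (hh k d M x) := by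
  have h1 : Abelian.Ext.homEquiv.symm (x ≫ shMap d g) =
      (Abelian.Ext.homEquiv.symm x).comp (Abelian.Ext.mk₀ g) (add_zero d) := by
    refine Abelian.Ext.homEquiv.injective ?_
    rw [Equiv.apply_symm_apply]
    change _ = ((Abelian.Ext.homEquiv.symm x).comp (Abelian.Ext.mk₀ g) (add_zero d)).hom
    rw [Abelian.Ext.comp_hom, Abelian.Ext.mk₀_hom, ShiftedHom.comp_mk₀]
    simp [shMap, Abelian.Ext.hom]
  refine (congrArg (ExtHH.Basic.extUnitEquiv k N d) h1).trans ?_
  exact ExtHH.Basic.extHH_comp_mk₀ (𝟭 X.Modules) (𝟙 _) g d _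

lemma scalarEnd_eq_smulMod (M : X.Modules) (r : k) :
    TwSh.scalarEnd M ((X ↘ S k).appTop (rho k r)) = Formal.smulMod k M r :=
  Scheme.Modules.hom_ext _ _ fun _ => rfl

lemma hh_smul (M : X.Modules) (r : k) (x : oneX X ⟶ sh d M) :
    hh k d M (x ≫ (sD ((X ↘ S k).appTop (rho k r))).app (sh d M)) = r • hh k d M x := by
  rw [sD_sh, hh_comp, scalarEnd_eq_smulMod]
  rfl

end HH

end Groth.Agent.H23.TopDual
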