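import Groth.Agent.H23.TopDual.Basic
import Groth.Agent.S1769
import Groth.Agent.H23.TopDual.Amp
import Groth.Agent.Lib.CohBasics.Closure
import Groth.Agent.Lib.RightAdjCoh.Basic
import Groth.Agent.Lib.SchColim29.CohPush

/-!
# The object representing the dual of top cohomology is coherent
-/

set_option autoImplicit false
set_option linter.unusedSectionVars false
set_option linter.style.haveILetI false
set_option maxHeartbeats 1000000

universe u

open CategoryTheory Limits Pretriangulated AlgebraicGeometry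

attribute [local instance] HasDerivedCategory.standard

noncomputable section

namespace Groth.Agent.H23.TopDual

open Groth.Agent.Lib Groth.Agent.Lib.DerivedOX
open Groth.Agent.Lib.RightAdjTensor.Scalar (sD Rpush_sD)

lemma isQCohD_single {X : Scheme.{u}} (M : X.Modules) (hM : M.IsQuasicoherent) :
    DCoh.IsQCohD (DCoh.inD X M) := fun i => by
  by_cases hi : i = 0
  · subst hi
    exact (WayOut.Scheme.qc X).prop_of_iso
      ((DerivedCategory.singleFunctorCompHomologyFunctorIso _ 0).app M).symm hM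
  · refine RpushQCoh.qc_of_isZero ?_
    rcases lt_or_gt_of_ne hi with h | h
    · exact DerivedCategory.isZero_of_isGE ((DerivedCategory.singleFunctor X.Modules 0).obj M) 0 i h
    · exact DerivedCategory.isZero_of_isLE ((DerivedCategory.singleFunctor X.Modules 0).obj M) 0 i h

lemma isQCohD_sh {X : Scheme.{u}} (d : ℕ) (M : X.Modules) (hM : M.IsQuasicoherent) :
    DCoh.IsQCohD (sh d M) :=
  CompactUnit.qcD_shift _ _ (isQCohD_single M hM)

lemma isLE_sh {X : Scheme.{u}} (d : ℕ) (M : X.Modules) : (sh d M).IsLE (-(d : ℤ)) :=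
  DerivedCategory.TStructure.t.isLE_shift ((DerivedCategory.singleFunctor X.Modules 0).obj M) 0 d _
    (by omega)

lemma isGE_sh {X : Scheme.{u}} (d : ℕ) (M : X.Modules) : (sh d M).IsGE (-(d : ℤ)) :=
  DerivedCategory.TStructure.t.isGE_shift ((DerivedCategory.singleFunctor X.Modules 0).obj M) 0 d _
    (by omega)

/-- A map from an object in degree `n` to one in degrees `≥ n` is determined by `H^n`. -/
theorem eq_zero_of_homology {C : Type*} [Category C] [Abelian C] [HasDerivedCategory C]
    {A Y : DerivedCategory C} (n : ℤ) [A.IsLE n] [A.IsGE n] [Y.IsGE n] (φ : A ⟶ Y)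
    (h : (DerivedCategory.homologyFunctor C n).map φ = 0) : φ = 0 := by
  let t := DerivedCategory.TStructure.t (C := C)
  have hT := t.triangleLTGE_distinguished (n + 1) Y
  haveI hge : ((t.truncGE (n + 1)).obj Y).IsGE (n + 1) :=
    (inferInstance : t.IsGE ((t.truncGE (n + 1)).obj Y) (n + 1))
  have h0 : φ ≫ (t.truncGEπ (n + 1)).app Y = 0 := t.zero _ n (n + 1) (by lia)
  obtain ⟨φ', hφ⟩ : ∃ φ' : A ⟶ (t.truncLT (n + 1)).obj Y, φ = φ' ≫ (t.truncLTι (n + 1)).app Y :=
    Triangle.coyoneda_exact₂ _ hT φ h0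
  haveI : DerivedCategory.IsLE ((t.truncLT (n + 1)).obj Y) n := t.isLE_truncLT_obj Y (n + 1) n
  have hι : ∀ i : ℤ, i < n + 1 →
      IsIso ((DerivedCategory.homologyFunctor C i).map ((t.truncLTι (n + 1)).app Y)) :=
    fun i hi => @DerCat.TStruct.isIso_homologyMap_mor₁ _ _ _ _ _ hT (n + 1) hge i hi
  haveI : DerivedCategory.IsGE ((t.truncLT (n + 1)).obj Y) n := (DerivedCategory.isGE_iff _ _).2 fun i hi => by
    haveI := hι i (by omega)
    exact (DerivedCategory.isZero_of_isGE Y n i hi).of_iso
      (asIso ((DerivedCategory.homologyFunctor C i).map ((t.truncLTι (n + 1)).app Y)))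
  haveI := hι n (by omega)
  have h1 : (DerivedCategory.homologyFunctor C n).map φ' = 0 := by
    rw [← cancel_mono ((DerivedCategory.homologyFunctor C n).map ((t.truncLTι (n + 1)).app Y)), zero_comp]
    exact ((Functor.map_comp _ _ _).symm.trans (congrArg _ hφ.symm)).trans h
  rw [hφ, DerCat.TStruct.eq_zero_of_homologyMap_eq_zero n φ' h1, zero_comp]

variable {k : Type u} [Field k] {X : Scheme.{u}} [X.Over (S k)] [IsProper (X ↘ S k)]

/-- Cohomology above the dimension vanishes on the opens in question. -/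
theorem van (d : ℕ) (hd : topologicalKrullDim X = d) (M : X.Modules) (W : (S k).Opens) (q : ℕ)
    (hq : d + 1 ≤ q) : Subsingleton (CohTop.HU (Coh.toAb M) q ((X ↘ S k) ⁻¹ᵁ W)) := by
  haveI : IsLocallyNoetherian X := LocallyOfFiniteType.isLocallyNoetherian (X ↘ S k)
  haveI : CompactSpace X := QuasiCompact.compactSpace_of_compactSpace (X ↘ S k)
  haveI : IsNoetherian X := {}
  refine Amp.subsingleton_HU_of_support (N := d) hd.le M (Z := Set.univ) isClosed_univ
    (d := d) ?_ (fun x hx => absurd (Set.mem_univ x) hx) _ q (by omega)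
  exact ((Homeomorph.Set.univ X).isHomeomorph.topologicalKrullDim_eq _).trans_le hd.le

/-- Cohomology above the dimension vanishes. -/
theorem subsingleton_HH_above {X : Scheme.{u}} [IsNoetherian X] (d : ℕ) (hd : topologicalKrullDim X = d)
    (M : X.Modules) : Subsingleton (Coh.HH X M (d + 1)) := by
  refine GrothVanSupport.H_subsingleton d hd.le (S := Set.univ) isClosed_univ (d := d) ?_ (Coh.toAb M)
    (fun x hx => absurd (Set.mem_univ x) hx) (d + 1) (Nat.lt_succ_self d)
  exact ((Homeomorph.Set.univ X).isHomeomorph.topologicalKrullDim_eq _).trans_le hd.le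

/-- If an object represents `F ↦ H^d(X, F)^*` on quasi-coherent modules, it is coherent. -/
theorem isCoh_of_pair (d : ℕ) (hd : topologicalKrullDim X = d) (ω : X.Modules) (hω : ω.IsQuasicoherent)
    (t : Coh.HH X ω d →ₗ[k] k)
    (hrep : ∀ (F : X.Modules), F.IsQuasicoherent → ∀ φ : F ⟶ ω,
      (∀ z : Coh.HH X F d, t (Sheaf.H.map ((SheafOfModules.toSheaf X.ringCatSheaf).map φ) d z) = 0) → φ = 0) :
    Coh.IsCoh ω := by
  let p := X ↘ S k
  haveI : IsLocallyNoetherian X := LocallyOfFiniteType.isLocallyNoetherian p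
  haveI : CompactSpace X := QuasiCompact.compactSpace_of_compactSpace p
  haveI : IsNoetherian X := {}
  haveI : IsNoetherianRing (CommRingCat.of k : CommRingCat.{u}) := inferInstanceAs (IsNoetherianRing k)
  haveI : DCoh.HasRpush p := Exists.hasRpush p
  have hf : DCoh.RpushPreservesQCoh p := RightAdjCoh.preservesQCoh p
  obtain ⟨a, ⟨adj⟩⟩ := RightAdjCoh.exists_adj p hf
  haveI := RightAdjTensor.additive_a p hf adj
  let hO : DCoh.IsQCohD (oneX (S k)) :=
    isQCohD_single _ (TensorMod.QCohInv.isQCoh_structureModule _)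
  let O : DCoh.DQCoh (S k) := ⟨oneX (S k), hO⟩
  let Y := (a.obj O).obj
  have hYq : DCoh.IsQCohD Y := (a.obj O).property
  haveI hO0 : (oneX (S k)).IsGE 0 := inferInstanceAs (((DerivedCategory.singleFunctor _ 0).obj _).IsGE 0)
  -- coherence
  have hYc : ∀ i, Coh.IsCoh (DCoh.HD Y i) := fun i => Groth.Agent.S1769.result X (S k) p hf a adj O 0
    (fun j hj => DerivedCategory.isZero_of_isGE (oneX (S k)) 0 j hj) (fun j => by
      by_cases hj : j = 0
      · subst hj
        exact CohBasics.Closure.isCoh_of_iso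
          ((DerivedCategory.singleFunctorCompHomologyFunctorIso _ 0).app (Coh.structureModule (S k))).symm
          (Snapper.Twist.isCoh_structureModule _)
      · refine SchColim29.CohPush.isCoh_of_isZero ?_
        rcases lt_or_gt_of_ne hj with h | h
        · exact DerivedCategory.isZero_of_isGE (oneX (S k)) 0 j h
        · exact DerivedCategory.isZero_of_isLE ((DerivedCategory.singleFunctor _ 0).obj _) 0 j h) i
  -- maps from objects with vanishing direct image
  have hzero : ∀ (P : DCoh.D X), DCoh.IsQCohD P → ∀ φ : P ⟶ Y,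
      (∀ ψ : (DCoh.Rpush p).obj P ⟶ oneX (S k), ψ = 0) → φ = 0 := by
    intro P hP φ h
    let P' : DCoh.DQCoh X := ⟨P, hP⟩
    have h0 : (adj.homEquiv P' O).symm (ObjectProperty.homMk φ) = 0 := ObjectProperty.hom_ext _ (h _)
    have h1 : (ObjectProperty.homMk φ : P' ⟶ a.obj O) = 0 := by
      rw [← (adj.homEquiv P' O).apply_symm_apply (ObjectProperty.homMk φ)]
      refine (congrArg _ h0).trans ?_
      rw [adj.homEquiv_unit, Functor.map_zero, comp_zero]
    exact congrArg (fun t => t.hom) h1
  -- the amplitude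
  let m : ℤ := -(d : ℤ)
  haveI hY : Y.IsGE m := by
    let t := DerivedCategory.TStructure.t (C := X.Modules)
    let T := (t.triangleLTGE m).obj Y
    have hT := t.triangleLTGE_distinguished m Y
    haveI : T.obj₁.IsLE (m - 1) :=
      inferInstanceAs (t.IsLE ((t.truncLT m).obj Y) (m - 1))
    have hq₁ : DCoh.IsQCohD T.obj₁ := WayOut.Bounded.hasP_truncLT (P := WayOut.Scheme.qc X) hYq m
    haveI : ((DCoh.Rpush p).obj T.obj₁).IsLE (m - 1 + d) :=
      Amp.isLE_Rpush_of_van p d (fun M _ W _ q hq => van d hd M W q hq) T.obj₁ (m - 1) hq₁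
    have hι : T.mor₁ = 0 := hzero T.obj₁ hq₁ T.mor₁ fun ψ =>
      DerivedCategory.TStructure.t.zero_of_isLE_of_isGE ψ (m - 1 + d) 0 (by omega)
        (inferInstanceAs (DerivedCategory.IsLE _ (m - 1 + d))) (inferInstanceAs (DerivedCategory.IsGE _ 0))
    haveI hge : T.obj₃.IsGE m := inferInstanceAs (t.IsGE ((t.truncGE m).obj Y) m)
    refine (DerivedCategory.isGE_iff _ _).2 fun i hi => ?_
    have hiso : IsIso ((DerivedCategory.homologyFunctor X.Modules i).map T.mor₁) :=
      @DerCat.TStruct.isIso_homologyMap_mor₁ _ _ _ _ _ hT m hge i hi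
    have h1 : (DerivedCategory.homologyFunctor X.Modules i).map T.mor₁ = 0 := by
      rw [hι, Functor.map_zero]
    obtain ⟨g, -, hg⟩ := hiso.out
    exact (IsZero.iff_id_eq_zero _).2 (hg.symm.trans ((congrArg (g ≫ ·) h1).trans comp_zero))
  -- top cohomology as maps
  obtain ⟨η, hη, hηadd⟩ := exists_eta (k := k) p
  let U := (DCoh.Rpush p).obj (sh d ω)
  have hsm : ∀ (r : k) (y : oneX (S k) ⟶ U),
      hh k d ω ((η _).symm (Ψ k r ≫ y)) = r • hh k d ω ((η _).symm y) := by
    intro r y
    rw [← hh_smul]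
    refine congrArg _ ((η _).injective ?_)
    rw [Equiv.apply_symm_apply, hη, Equiv.apply_symm_apply, Rpush_sD]
    exact sD_one_comp (rho k r) y
  have hadd : ∀ x y : oneX (S k) ⟶ U, hh k d ω ((η _).symm (x + y)) =
      hh k d ω ((η _).symm x) + hh k d ω ((η _).symm y) := by
    intro x y
    rw [← hh_add]
    refine congrArg _ ((η _).injective ?_)
    rw [Equiv.apply_symm_apply, hηadd, Equiv.apply_symm_apply, Equiv.apply_symm_apply]
  let ψ : (oneX (S k) ⟶ U) →+ (oneX (S k) ⟶ oneX (S k)) :=
    AddMonoidHom.mk' (fun y => Ψ k (t (hh k d ω ((η _).symm y)))) fun x y => by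
      rw [hadd, map_add, Ψ_add]
  obtain ⟨χ, hχ⟩ := exists_hom_to_oneX k (hf _ (isQCohD_sh d ω hω)) ψ fun a y => by
    obtain ⟨r, rfl⟩ := Ψ_surjective k a
    change Ψ k (t (hh k d ω ((η _).symm (Ψ k r ≫ y)))) = Ψ k r ≫ Ψ k (t (hh k d ω ((η _).symm y)))
    rw [hsm, map_smul, smul_eq_mul, Ψ_mul]
  -- the map to the coherent module
  let W : DCoh.DQCoh X := ⟨sh d ω, isQCohD_sh d ω hω⟩
  let ξ : W ⟶ a.obj O := adj.homEquiv W O (ObjectProperty.homMk χ)
  let H := DerivedCategory.homologyFunctor X.Modules m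
  let σ : ∀ M : X.Modules, H.obj (sh d M) ≅ M := fun M =>
    (H.mapIso (((DerivedCategory.singleFunctors X.Modules).shiftIso (d : ℤ) m 0 (by omega)).app M)) ≪≫
      (DerivedCategory.singleFunctorCompHomologyFunctorIso X.Modules m).app M
  have hσ : ∀ {M N : X.Modules} (g : M ⟶ N), H.map (shMap d g) ≫ (σ N).hom = (σ M).hom ≫ g := by
    intro M N g
    have h1 := ((DerivedCategory.singleFunctors X.Modules).shiftIso (d : ℤ) m 0 (by omega)).hom.naturality g
    have h2 := (DerivedCategory.singleFunctorCompHomologyFunctorIso X.Modules m).hom.naturality g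
    simp only [σ, Iso.trans_hom, Functor.mapIso_hom, Iso.app_hom, Category.assoc]
    rw [← Category.assoc, ← Functor.map_comp]
    refine Eq.trans ?_ ((congrArg (_ ≫ ·) h2))
    rw [← Category.assoc]
    refine congrArg (· ≫ _) ?_
    exact (congrArg H.map h1).trans (H.map_comp _ _)
  let e : ω ⟶ DCoh.HD Y m := (σ ω).inv ≫ H.map ξ.hom
  have hC : Coh.IsCoh (DCoh.HD Y m) := hYc m
  haveI : Mono e := by
    refine Preadditive.mono_of_kernel_zero ?_
    let K := kernel e
    let ι := kernel.ι e
    haveI : (DCoh.HD Y m).IsQuasicoherent := hC.1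
    haveI : ω.IsQuasicoherent := hω
    haveI hK : K.IsQuasicoherent := QCoh.Closure.isQCoh_kernel e
    let W' : DCoh.DQCoh X := ⟨sh d K, isQCohD_sh d K hK⟩
    let g : W' ⟶ W := ObjectProperty.homMk (shMap d ι)
    haveI := isLE_sh d K
    haveI := isGE_sh d K
    have h0 : shMap d ι ≫ ξ.hom = 0 := by
      refine eq_zero_of_homology m _ ?_
      rw [← cancel_epi (σ K).inv, comp_zero, Functor.map_comp]
      have h3 : (σ K).inv ≫ H.map (shMap d ι) = ι ≫ (σ ω).inv := by
        rw [Iso.inv_comp_eq, ← Category.assoc, Iso.eq_comp_inv, hσ]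
      exact ((Category.assoc _ _ _).symm.trans (congrArg (· ≫ _) h3)).trans
        ((Category.assoc _ _ _).trans (kernel.condition e))
    have h1 : (adj.homEquiv W' O) ((DCoh.RpushQ p hf).map g ≫ ObjectProperty.homMk χ) = adj.homEquiv W' O 0 := by
      refine (adj.homEquiv_naturality_left g (ObjectProperty.homMk χ : (DCoh.RpushQ p hf).obj W ⟶ O)).trans ?_
      refine (ObjectProperty.hom_ext _ h0 : g ≫ ξ = 0).trans ?_
      rw [adj.homEquiv_unit, Functor.map_zero, comp_zero]
    have h2 : (DCoh.Rpush p).map (shMap d ι) ≫ χ = 0 :=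
      congrArg (fun s => s.hom) ((adj.homEquiv W' O).injective h1)
    refine hrep K hK ι fun z => ?_
    obtain ⟨x, rfl⟩ := hh_surjective k d K z
    rw [← hh_comp]
    refine Ψ_injective k ?_
    have h4 := hχ (η _ (x ≫ shMap d ι))
    change _ = Ψ k (t (hh k d ω ((η _).symm (η _ (x ≫ shMap d ι))))) at h4
    rw [Equiv.symm_apply_apply, hη, Category.assoc, h2, comp_zero] at h4
    rw [← h4, Ψ_eq]
    refine ((DerivedCategory.singleFunctor (S k).Modules 0).map_zero _ _).symm.trans (congrArg _ ?_)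
    refine Scheme.Modules.hom_ext _ _ fun V => ?_
    ext s
    change (0 : Γ(Coh.structureModule (S k), V)) = TwSh.resTop (S k) V (rho k 0) • s
    simp only [rho, map_zero, zero_smul]
  haveI : ω.IsQuasicoherent := hω
  exact CohBasics.Closure.isCoh_of_mono e hC

end Groth.Agent.H23.TopDual
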