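import Groth.Agent.H20.TopRep.Coprod
import Groth.Agent.H20.TopRep.Dim
import Groth.Agent.H83.QCohGroth.Cat
import Mathlib.Algebra.Category.ModuleCat.Biproducts
import Mathlib.Algebra.DirectSum.Module

/-!
# Representability of the dual of top cohomology on quasi-coherent modules

Copy of `Groth.Agent.H20.TopRep.Rep` with a lighter import closure.
-/

set_option autoImplicit false
set_option linter.style.haveILetI false

universe u

open CategoryTheory Limits AlgebraicGeometry Opposite TopologicalSpace
open scoped DirectSum

namespace Groth.Agent.H23.TopDual.Rep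

open Groth.Agent.Lib Groth.Agent.Lib.Curves.LES Groth.Agent.H20.TopRep

noncomputable section

variable {X : Scheme.{u}} (A : Type u) [CommRing A] [X.Over (Spec (CommRingCat.of A))]

/-- Cohomology in degree `n` as a functor on quasi-coherent modules. -/
def T (n : ℕ) : QCohCat.QCoh X ⥤ ModuleCat.{u} A where
  obj F := ModuleCat.of A (Coh.HH X F.obj n)
  map f := ModuleCat.ofHom (mapK A f.hom n)
  map_id F := by ext : 1; exact mapK_id A F.obj n
  map_comp f g := by ext : 1; exact mapK_comp A f.hom g.hom n

instance additive_T (n : ℕ) : (T (X := X) A n).Additive where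
  map_add := by intros; ext : 1; exact mapK_add A _ _ n

theorem bijective_toModule [CompactSpace X] [QuasiSeparatedSpace X] [DecidableEq X.Modules]
    {ι : Type u} [DecidableEq ι] (f : ι → X.Modules) (c : Cofan f) (hc : IsColimit c) (n : ℕ) :
    Function.Bijective (DirectSum.toModule A ι (Coh.HH X c.pt n) fun i => mapK A (c.inj i) n) := by
  constructor
  · intro a b hab
    refine DFunLike.ext _ _ fun i => ?_
    let π : c.pt ⟶ f i := Cofan.IsColimit.desc hc fun j => if h : j = i then eqToHom (by rw [h]) else 0
    have key : (mapK A π n).comp (DirectSum.toModule A ι (Coh.HH X c.pt n) fun i => mapK A (c.inj i) n) =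
        DirectSum.component A ι (fun j => Coh.HH X (f j) n) i := by
      refine DirectSum.linearMap_ext A fun j => LinearMap.ext fun w => ?_
      simp only [LinearMap.comp_apply, DirectSum.toModule_lof]
      rw [← LinearMap.comp_apply, ← mapK_comp, Cofan.IsColimit.fac]
      rcases eq_or_ne j i with rfl | h
      · simp [mapK_id, DirectSum.component.lof_self]
      · rw [dif_neg h, mapK_zero, LinearMap.zero_apply, DirectSum.component.of, dif_neg h]
    have h1 := congrArg (mapK A π n) hab
    rw [← LinearMap.comp_apply, ← LinearMap.comp_apply, key] at h1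
    exact h1
  · intro x
    have h : (⨆ i, LinearMap.range (mapK A (c.inj i) n)) ≤
        LinearMap.range (DirectSum.toModule A ι (Coh.HH X c.pt n) fun i => mapK A (c.inj i) n) :=
      iSup_le fun i => by
        rintro _ ⟨w, rfl⟩
        exact ⟨DirectSum.lof A ι _ i w, DirectSum.toModule_lof ..⟩
    exact h (mem_span A f c hc n x)

/-- The direct sum cofan. -/
def dsCofan {ι : Type u} [DecidableEq ι] (M : ι → ModuleCat.{u} A) : Cofan M :=
  Cofan.mk (ModuleCat.of A (⨁ i, M i)) fun i => ModuleCat.ofHom (DirectSum.lof A ι (fun i => M i) i)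

/-- It is a coproduct. -/
def dsIsColimit {ι : Type u} [DecidableEq ι] (M : ι → ModuleCat.{u} A) : IsColimit (dsCofan A M) :=
  mkCofanColimit _
    (fun s => ModuleCat.ofHom (DirectSum.toModule A ι s.pt fun i => (s.inj i).hom))
    (fun s i => by
      ext w
      exact DirectSum.toModule_lof A (φ := fun i => (s.inj i).hom) i w)
    (fun s m hm => by
      ext : 1
      refine DirectSum.linearMap_ext A fun i => LinearMap.ext fun w => ?_
      have h1 := ConcreteCategory.congr_hom (hm i) w
      exact h1.trans (DirectSum.toModule_lof A (φ := fun i => (s.inj i).hom) i w).symm)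

set_option maxHeartbeats 2000000 in
theorem preserves_cofan [CompactSpace X] [QuasiSeparatedSpace X] {ι : Type u} (n : ℕ)
    (f : ι → QCohCat.QCoh X) : PreservesColimit (Discrete.functor f) (T (X := X) A n) := by
  classical
  refine preservesColimit_of_preserves_colimit_cocone (coproductIsCoproduct f) ?_
  refine (isColimitMapCoconeCofanMkEquiv (T (X := X) A n) f (Sigma.ι f)).symm ?_
  let c' : Cofan (fun i => (f i).obj) := Cofan.mk _ fun i => (Sigma.ι f i).hom
  have hc' : IsColimit c' :=
    isColimitCofanMkObjOfIsColimit (QCohCat.isQCoh X).ι f (Sigma.ι f) (coproductIsCoproduct f)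
  have hb := bijective_toModule A (fun i => (f i).obj) c' hc' n
  refine IsColimit.ofIsoColimit (dsIsColimit A fun i => (T (X := X) A n).obj (f i))
    (Cofan.ext (LinearEquiv.ofBijective _ hb).toModuleIso fun i => ?_)
  ext w
  exact DirectSum.toModule_lof A (φ := fun i => mapK A (c'.inj i) n) i w

theorem preserves_coproduct [CompactSpace X] [QuasiSeparatedSpace X] {ι : Type u} (n : ℕ) :
    PreservesColimitsOfShape (Discrete ι) (T (X := X) A n) := by
  classical
  haveI : ∀ f : ι → QCohCat.QCoh X, PreservesColimit (Discrete.functor f) (T (X := X) A n) := fun f =>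
    preserves_cofan A n f
  exact preservesColimitsOfShape_of_discrete _

theorem preserves_finite (n : ℕ)
    (hv : ∀ M : X.Modules, M.IsQuasicoherent → Subsingleton (Coh.HH X M (n + 1))) :
    PreservesFiniteColimits (T (X := X) A n) := by
  refine ((Functor.preservesFiniteColimits_tfae (T (X := X) A n)).out 0 3).1 fun S hS => ?_
  haveI : (QCohCat.isQCoh X).ι.Additive := Functor.additive_of_preserves_binary_products _
  have hS' : (S.map (QCohCat.isQCoh X).ι).ShortExact := hS.map_of_exact _
  refine ⟨?_, (ModuleCat.epi_iff_surjective _).2 fun x => ?_⟩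
  · rw [ShortComplex.ShortExact.moduleCat_exact_iff_function_exact]
    exact exactK₂ A hS' n
  · exact (exactK₃ A hS' n (n + 1) rfl x).1
      ((hv S.X₁.obj S.X₁.property).elim _ _)

/-- The pair representing the dual of top cohomology. -/
theorem exists_pair [CompactSpace X] [QuasiSeparatedSpace X] (n : ℕ)
    (hv : ∀ M : X.Modules, M.IsQuasicoherent → Subsingleton (Coh.HH X M (n + 1))) :
    ∃ (ω : X.Modules), ω.IsQuasicoherent ∧ ∃ γ : Coh.HH X ω n →ₗ[A] A,
      ∀ F : X.Modules, F.IsQuasicoherent →
        Function.Bijective fun φ : F ⟶ ω => γ.comp (mapK A φ n) := by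
  haveI : ∀ ι : Type u, PreservesColimitsOfShape (Discrete ι) (T (X := X) A n) :=
    fun ι => preserves_coproduct A n
  haveI := preserves_finite A n hv
  haveI : PreservesColimitsOfSize.{u, u} (T (X := X) A n) :=
    preservesColimits_of_preservesCoequalizers_and_coproducts _
  haveI := H83.QCohGroth.isLeftAdjoint X (T (X := X) A n)
  let adj := Adjunction.ofIsLeftAdjoint (T (X := X) A n)
  let R := (T (X := X) A n).rightAdjoint.obj (ModuleCat.of A A)
  refine ⟨R.obj, R.property, (adj.counit.app (ModuleCat.of A A)).hom, fun F hF => ?_⟩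
  constructor
  · intro φ ψ h
    have h1 : (adj.homEquiv ⟨F, hF⟩ _).symm (ObjectProperty.homMk φ) =
        (adj.homEquiv ⟨F, hF⟩ _).symm (ObjectProperty.homMk ψ) := by
      rw [Adjunction.homEquiv_counit, Adjunction.homEquiv_counit]
      ext : 1
      exact h
    exact congrArg (fun t : (⟨F, hF⟩ : QCohCat.QCoh X) ⟶ R => t.hom)
      ((adj.homEquiv ⟨F, hF⟩ _).symm.injective h1)
  · intro g
    let t := adj.homEquiv ⟨F, hF⟩ _ (ModuleCat.ofHom g : (T A n).obj ⟨F, hF⟩ ⟶ ModuleCat.of A A)
    refine ⟨t.hom, ?_⟩
    have h1 := (adj.homEquiv ⟨F, hF⟩ _).symm_apply_apply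
      (ModuleCat.ofHom g : (T A n).obj ⟨F, hF⟩ ⟶ ModuleCat.of A A)
    rw [Adjunction.homEquiv_counit] at h1
    exact congrArg ModuleCat.Hom.hom h1

end

end Groth.Agent.H23.TopDual.Rep
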