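import Mathlib.Algebra.Homology.DerivedCategory.KProjective
import Mathlib.Algebra.Homology.DerivedCategory.FullyFaithful
import Mathlib.Algebra.Homology.HomotopyCategory.KProjective
import Mathlib.Algebra.Category.ModuleCat.Projective
import Mathlib.Algebra.Category.ModuleCat.Abelian
import Mathlib.LinearAlgebra.Basis.VectorSpace

/-!
# Linear forms on `Hom(k, C)` in the derived category of vector spaces
-/

set_option autoImplicit false
set_option linter.style.haveILetI false

universe u

open CategoryTheory Limits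

attribute [local instance] HasDerivedCategory.standard

noncomputable section

namespace Groth.Agent.H23.TopDual

variable {k : Type u} [Field k]

/-- `k` in degree `0`, as a complex. -/
abbrev oneC (k : Type u) [Field k] : CochainComplex (ModuleCat.{u} k) ℤ :=
  (HomologicalComplex.single (ModuleCat.{u} k) (ComplexShape.up ℤ) 0).obj (ModuleCat.of k k)

/-- The chain map of a cycle. -/
def ofCycle {K : CochainComplex (ModuleCat.{u} k) ℤ} (z : LinearMap.ker (K.d 0 1).hom) : oneC k ⟶ K :=
  HomologicalComplex.mkHomFromSingle (ModuleCat.ofHom (LinearMap.toSpanSingleton k (K.X 0) z.1))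
    (fun j hj => by
      obtain rfl : j = 1 := by simp only [ComplexShape.up_Rel] at hj; omega
      ext
      simp)

lemma ofCycle_f {K : CochainComplex (ModuleCat.{u} k) ℤ} (z : LinearMap.ker (K.d 0 1).hom) :
    (ofCycle z).f 0 = (HomologicalComplex.singleObjXSelf (ComplexShape.up ℤ) 0 (ModuleCat.of k k)).hom ≫
      ModuleCat.ofHom (LinearMap.toSpanSingleton k (K.X 0) z.1) := by
  simp [ofCycle, HomologicalComplex.mkHomFromSingle_f]

theorem exists_ofCycle {K : CochainComplex (ModuleCat.{u} k) ℤ}
    (x : DerivedCategory.Q.obj (oneC k) ⟶ DerivedCategory.Q.obj K) :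
    ∃ z, x = DerivedCategory.Q.map (ofCycle z) := by
  haveI : CochainComplex.IsStrictlyLE (oneC k) 0 := (CochainComplex.isStrictlyLE_iff _ 0).2 fun i hi =>
    HomologicalComplex.isZero_single_obj_X _ 0 _ i (by omega)
  haveI : ∀ i, Projective ((oneC k).X i) := fun i => by
    by_cases hi : i = 0
    · subst hi
      exact Projective.of_iso (HomologicalComplex.singleObjXSelf (ComplexShape.up ℤ) 0 _).symm
        inferInstance
    · exact (HomologicalComplex.isZero_single_obj_X _ 0 _ i hi).projective
  haveI := CochainComplex.isKProjective_of_projective (oneC k) 0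
  obtain ⟨g, hg⟩ := (CochainComplex.IsKProjective.Qh_map_bijective (oneC k)
    ((HomotopyCategory.quotient _ _).obj K)).surjective
    ((DerivedCategory.quotientCompQhIso _).hom.app (oneC k) ≫ x ≫ (DerivedCategory.quotientCompQhIso _).inv.app K)
  obtain ⟨φ, rfl⟩ := (HomotopyCategory.quotient _ _).map_surjective g
  have hφ : DerivedCategory.Q.map φ = x := by
    rw [← cancel_mono ((DerivedCategory.quotientCompQhIso _).inv.app K),
      DerivedCategory.quotientCompQhIso_inv_naturality, hg]
    exact Iso.inv_hom_id_app_assoc _ _ _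
  let i0 : ModuleCat.of k k ⟶ (oneC k).X 0 :=
    (HomologicalComplex.singleObjXSelf (ComplexShape.up ℤ) 0 (ModuleCat.of k k)).inv
  let v : K.X 0 := (φ.f 0).hom (i0.hom (1 : k))
  have hv : (K.d 0 1).hom v = 0 := by
    have h := congrArg (fun t : (oneC k).X 0 ⟶ K.X 1 => t.hom (i0.hom (1 : k))) (φ.comm 0 1)
    simp only [HomologicalComplex.single_obj_d, zero_comp, ModuleCat.hom_comp, LinearMap.comp_apply,
      ModuleCat.hom_zero, LinearMap.zero_apply] at h
    exact h
  refine ⟨⟨v, hv⟩, hφ.symm.trans (congrArg _ ?_)⟩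
  refine HomologicalComplex.from_single_hom_ext ?_
  rw [ofCycle_f, ← Iso.inv_comp_eq]
  exact ModuleCat.hom_ext (LinearMap.ext_ring (by simp [v, i0]))

/-- Every form on `Hom(k, C)` compatible with endomorphisms of `k` comes from a map `C → k`. -/
theorem exists_hom_to_one (C : DerivedCategory (ModuleCat.{u} k))
    (ψ : (DerivedCategory.Q.obj (oneC k) ⟶ C) →+ (DerivedCategory.Q.obj (oneC k) ⟶ DerivedCategory.Q.obj (oneC k)))
    (hψ : ∀ a x, ψ (a ≫ x) = a ≫ ψ x) :
    ∃ χ : C ⟶ DerivedCategory.Q.obj (oneC k), ∀ x, x ≫ χ = ψ x := by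
  suffices H : ∀ (K : CochainComplex (ModuleCat.{u} k) ℤ)
      (ψ : (DerivedCategory.Q.obj (oneC k) ⟶ DerivedCategory.Q.obj K) →+
        (DerivedCategory.Q.obj (oneC k) ⟶ DerivedCategory.Q.obj (oneC k))),
      (∀ a x, ψ (a ≫ x) = a ≫ ψ x) →
      ∃ χ : DerivedCategory.Q.obj K ⟶ DerivedCategory.Q.obj (oneC k), ∀ x, x ≫ χ = ψ x by
    let e := DerivedCategory.Q.objObjPreimageIso C
    let ψ' := AddMonoidHom.mk' (fun x => ψ (x ≫ e.hom)) (fun a b => by rw [Preadditive.add_comp, map_add])
    obtain ⟨χ, hχ⟩ := H _ ψ' fun a x => by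
      change ψ ((a ≫ x) ≫ e.hom) = a ≫ ψ (x ≫ e.hom)
      rw [Category.assoc, hψ]
    exact ⟨e.inv ≫ χ, fun x => by
      have h := hχ (x ≫ e.inv)
      change (x ≫ e.inv) ≫ χ = ψ ((x ≫ e.inv) ≫ e.hom) at h
      exact (Category.assoc _ _ _).symm.trans (h.trans (congrArg ψ
        (by rw [Category.assoc, e.inv_hom_id, Category.comp_id])))⟩
  intro K ψ hψ
  let one := DerivedCategory.Q.obj (oneC k)
  -- endomorphisms of `k[0]`
  let u : (oneC k).X 0 ⟶ ModuleCat.of k k := (HomologicalComplex.singleObjXSelf (ComplexShape.up ℤ) 0 _).hom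
  haveI : (DerivedCategory.singleFunctor (ModuleCat.{u} k) 0).Full := inferInstance
  let pre : (one ⟶ one) → (ModuleCat.of k k ⟶ ModuleCat.of k k) := fun y =>
    (DerivedCategory.singleFunctor (ModuleCat.{u} k) 0).preimage
      (X := ModuleCat.of k k) (Y := ModuleCat.of k k) y
  have hpre : ∀ y : one ⟶ one, (DerivedCategory.singleFunctor (ModuleCat.{u} k) 0).map (pre y) = y :=
    fun y => (DerivedCategory.singleFunctor (ModuleCat.{u} k) 0).map_preimage
      (X := ModuleCat.of k k) (Y := ModuleCat.of k k) y
  let val : (one ⟶ one) → k := fun y => (pre y).hom (1 : k)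
  let sg : k → (oneC k ⟶ oneC k) := fun r => (HomologicalComplex.single _ (ComplexShape.up ℤ) 0).map
    (ModuleCat.ofHom (LinearMap.toSpanSingleton k k r))
  have hval : ∀ y : one ⟶ one, DerivedCategory.Q.map (sg (val y)) = y := by
    intro y
    have h1 : (ModuleCat.ofHom (LinearMap.toSpanSingleton k k (val y)) : ModuleCat.of k k ⟶ ModuleCat.of k k) =
        pre y := ModuleCat.hom_ext (LinearMap.ext_ring (by simp [val]))
    change (DerivedCategory.singleFunctor (ModuleCat.{u} k) 0).map
      (ModuleCat.ofHom (LinearMap.toSpanSingleton k k (val y))) = y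
    rw [h1]
    exact hpre y
  have hval' : ∀ r, val (DerivedCategory.Q.map (sg r)) = r := by
    intro r
    have h1 : pre (DerivedCategory.Q.map (sg r)) = ModuleCat.ofHom (LinearMap.toSpanSingleton k k r) :=
      (DerivedCategory.singleFunctor (ModuleCat.{u} k) 0).map_injective (hpre _)
    simp [val, h1]
  -- the form on cycles
  let Lf : LinearMap.ker (K.d 0 1).hom → k := fun z => val (ψ (DerivedCategory.Q.map (ofCycle z)))
  have oc_add : ∀ {K' : CochainComplex (ModuleCat.{u} k) ℤ} (a b : LinearMap.ker (K'.d 0 1).hom),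
      ofCycle (a + b) = ofCycle a + ofCycle b := by
    intro K' a b
    refine HomologicalComplex.from_single_hom_ext ?_
    rw [HomologicalComplex.add_f_apply, ofCycle_f, ofCycle_f, ofCycle_f, ← Preadditive.comp_add]
    exact congrArg _ (ModuleCat.hom_ext (LinearMap.ext_ring (by simp)))
  have oc_smul : ∀ {K' : CochainComplex (ModuleCat.{u} k) ℤ} (r : k) (a : LinearMap.ker (K'.d 0 1).hom),
      ofCycle (r • a) = (HomologicalComplex.single _ (ComplexShape.up ℤ) 0).map
          (ModuleCat.ofHom (LinearMap.toSpanSingleton k k r)) ≫ ofCycle a := by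
    intro K' r a
    refine HomologicalComplex.from_single_hom_ext ?_
    rw [HomologicalComplex.comp_f, ofCycle_f, ofCycle_f, HomologicalComplex.single_map_f_self]
    simp only [Category.assoc, Iso.inv_hom_id_assoc]
    exact congrArg _ (ModuleCat.hom_ext (LinearMap.ext_ring (by simp)))
  have val_add : ∀ y y', val (y + y') = val y + val y' := by
    intro y y'
    have h1 : pre (y + y') = pre y + pre y' :=
      (DerivedCategory.singleFunctor (ModuleCat.{u} k) 0).map_injective
        ((hpre _).trans (Eq.trans (congrArg₂ (· + ·) (hpre y).symm (hpre y').symm)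
          ((DerivedCategory.singleFunctor (ModuleCat.{u} k) 0).map_add).symm))
    simp [val, h1]
  have val_smul : ∀ r y, val (DerivedCategory.Q.map (sg r) ≫ y) = r * val y := by
    intro r y
    have h1 : pre (DerivedCategory.Q.map (sg r) ≫ y) =
        ModuleCat.ofHom (LinearMap.toSpanSingleton k k r) ≫ pre y :=
      (DerivedCategory.singleFunctor (ModuleCat.{u} k) 0).map_injective
        ((hpre _).trans (Eq.trans (congrArg (DerivedCategory.Q.map (sg r) ≫ ·) (hpre y).symm)
          ((DerivedCategory.singleFunctor (ModuleCat.{u} k) 0).map_comp _ _).symm))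
    simp only [val, h1, ModuleCat.hom_comp, LinearMap.comp_apply, ModuleCat.hom_ofHom,
      LinearMap.toSpanSingleton_apply, one_smul]
    conv_lhs => rw [← mul_one r, ← smul_eq_mul, map_smul]
    rfl
  let L : LinearMap.ker (K.d 0 1).hom →ₗ[k] k :=
    { toFun := Lf
      map_add' := fun a b => by
        simp only [Lf]
        rw [oc_add, Functor.map_add, map_add, val_add]
      map_smul' := fun r a => by
        simp only [Lf, RingHom.id_apply, smul_eq_mul]
        rw [oc_smul, Functor.map_comp, hψ]
        exact val_smul r _ }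
  have hB : ∀ y : K.X (-1), ∀ hy : (K.d (-1) 0).hom y ∈ LinearMap.ker (K.d 0 1).hom,
      L ⟨(K.d (-1) 0).hom y, hy⟩ = 0 := by
    intro y hy
    have h0 : DerivedCategory.Q.map (ofCycle (K := K) ⟨(K.d (-1) 0).hom y, hy⟩) = 0 := by
      rw [← Functor.map_zero DerivedCategory.Q]
      refine DerivedCategory.Q_map_eq_of_homotopy (C := ModuleCat.{u} k) (K := oneC k) (L := K) ?_
      exact
        { hom := fun i j => if h : i = 0 ∧ j = -1 then
            (eqToHom (by rw [h.1]) : (oneC k).X i ⟶ (oneC k).X 0) ≫ u ≫
              ModuleCat.ofHom (LinearMap.toSpanSingleton k (K.X (-1)) y) ≫ eqToHom (by rw [h.2]) else 0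
          zero := fun i j hij => by
            rw [dif_neg]
            rintro ⟨rfl, rfl⟩
            exact hij (by simp)
          comm := fun i => by
            by_cases hi : i = 0
            · subst hi
              rw [dNext_eq _ (show (ComplexShape.up ℤ).Rel 0 1 by simp),
                prevD_eq _ (show (ComplexShape.up ℤ).Rel (-1) 0 by simp)]
              rw [dif_neg (by omega), dif_pos ⟨rfl, rfl⟩, ofCycle_f]
              simp only [comp_zero, zero_add, HomologicalComplex.zero_f, add_zero, eqToHom_refl,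
                Category.id_comp, Category.comp_id, Category.assoc]
              exact congrArg _ (ModuleCat.hom_ext (LinearMap.ext_ring (by simp)))
            · exact (HomologicalComplex.isZero_single_obj_X _ 0 _ i hi).eq_of_src _ _ }
    change val (ψ _) = 0
    rw [h0, map_zero]
    exact add_eq_left.1 ((val_add 0 0).symm.trans (congrArg val (add_zero _)))
  obtain ⟨G, hG⟩ := LinearMap.exists_extend L
  let χ : K ⟶ oneC k := HomologicalComplex.mkHomToSingle (ModuleCat.ofHom G) (fun i hi => by
    obtain rfl : i = -1 := by simp only [ComplexShape.up_Rel] at hi; omega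
    refine ModuleCat.hom_ext (LinearMap.ext fun y => ?_)
    have hy : (K.d (-1) 0).hom y ∈ LinearMap.ker (K.d 0 1).hom :=
      congrArg (fun t : K.X (-1) ⟶ K.X 1 => t.hom y) (K.d_comp_d (-1) 0 1)
    exact (LinearMap.congr_fun hG ⟨_, hy⟩).trans (hB y hy))
  refine ⟨DerivedCategory.Q.map χ, fun x => ?_⟩
  obtain ⟨z, rfl⟩ := exists_ofCycle x
  rw [← Functor.map_comp, ← hval (ψ (DerivedCategory.Q.map (ofCycle z)))]
  refine congrArg _ (HomologicalComplex.from_single_hom_ext ?_)
  rw [HomologicalComplex.comp_f, ofCycle_f, HomologicalComplex.single_map_f_self, Category.assoc]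
  refine congrArg _ ?_
  rw [Iso.eq_comp_inv]
  refine ModuleCat.hom_ext (LinearMap.ext_ring ?_)
  have h := LinearMap.congr_fun hG z
  simp [χ, u, HomologicalComplex.mkHomToSingle_f] at h ⊢
  exact h

end Groth.Agent.H23.TopDual
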